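import Mathlib.CategoryTheory.Abelian.SerreClass.Localization
import Mathlib.Algebra.Homology.Additive

/-!
Every complex in a Serre quotient is the image of a complex.
-/

set_option autoImplicit false

universe v u v' u'

open CategoryTheory CategoryTheory.Limits CategoryTheory.ObjectProperty

namespace Groth.Agent.SerreLift8

variable {A : Type u} [Category.{v} A] [Abelian A] (P : ObjectProperty A) [P.IsSerreClass]
  {Q : Type u'} [Category.{v'} Q] [Abelian Q] (L : A ⥤ Q) [L.IsLocalization P.isoModSerre] [L.Additive]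

/-- A lifted differential. -/
structure Edge (K : CochainComplex Q ℤ) (n : ℤ) where
  /-- source -/
  X : A
  /-- target -/
  Y : A
  /-- the map -/
  f : X ⟶ Y
  /-- the source is a lift -/
  eX : L.obj X ≅ K.X n
  /-- the target is a lift -/
  eY : L.obj Y ≅ K.X (n + 1)
  comm : L.map f ≫ eY.hom = eX.hom ≫ K.d n (n + 1)

variable {L}

include P in
theorem exists_edge (K : CochainComplex Q ℤ) (n : ℤ) : Nonempty (Edge L K n) := by
  haveI := Localization.essSurj L P.isoModSerre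
  let X₀ := L.objPreimage (K.X n)
  let Y₀ := L.objPreimage (K.X (n + 1))
  obtain ⟨φ, hφ⟩ := Localization.exists_leftFraction L P.isoModSerre
    ((L.objObjPreimageIso (K.X n)).hom ≫ K.d n (n + 1) ≫ (L.objObjPreimageIso (K.X (n + 1))).inv)
  exact ⟨⟨X₀, φ.Y', φ.f, L.objObjPreimageIso (K.X n),
    (Localization.isoOfHom L _ φ.s φ.hs).symm ≪≫ L.objObjPreimageIso (K.X (n + 1)), by
      rw [← φ.map_comp_map_s L (Localization.inverts _ _), ← hφ]; simp⟩⟩

include P in
theorem exists_next (K : CochainComplex Q ℤ) (n : ℤ) {X Y : A} (f : X ⟶ Y) (eX : L.obj X ≅ K.X n)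
    (eY : L.obj Y ≅ K.X (n + 1)) (hf : L.map f ≫ eY.hom = eX.hom ≫ K.d n (n + 1)) :
    ∃ (Z : A) (g : Y ⟶ Z) (eZ : L.obj Z ≅ K.X (n + 1 + 1)),
      f ≫ g = 0 ∧ L.map g ≫ eZ.hom = eY.hom ≫ K.d (n + 1) (n + 1 + 1) := by
  haveI := Localization.essSurj L P.isoModSerre
  obtain ⟨φ, hφ⟩ := Localization.exists_leftFraction L P.isoModSerre
    (eY.hom ≫ K.d (n + 1) (n + 1 + 1) ≫ (L.objObjPreimageIso (K.X (n + 1 + 1))).inv)
  let e₁ : L.obj φ.Y' ≅ K.X (n + 1 + 1) :=
    (Localization.isoOfHom L _ φ.s φ.hs).symm ≪≫ L.objObjPreimageIso _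
  have h₁ : L.map φ.f ≫ e₁.hom = eY.hom ≫ K.d (n + 1) (n + 1 + 1) := by
    rw [← φ.map_comp_map_s L (Localization.inverts _ _), ← hφ]; simp [e₁]
  have h0 : L.map (f ≫ φ.f) = 0 := by
    rw [← cancel_mono e₁.hom, L.map_comp, Category.assoc, h₁, ← Category.assoc, hf, Category.assoc, K.d_comp_d,
      comp_zero, zero_comp]
  obtain ⟨Z, s, hs, hz⟩ := (exists_comp_isoModSerre_eq_zero_iff P (f ≫ φ.f)).2
    ((SerreClassLocalization.map_eq_zero_iff L P _).1 h0)
  refine ⟨Z, φ.f ≫ s, (Localization.isoOfHom L _ s hs).symm ≪≫ e₁, by rw [← Category.assoc, hz], ?_⟩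
  rw [L.map_comp, Category.assoc, ← h₁]
  simp

include P in
theorem exists_prev (K : CochainComplex Q ℤ) (m n : ℤ) (hmn : m + 1 = n) {Y Z : A} (g : Y ⟶ Z)
    (eY : L.obj Y ≅ K.X n) (eZ : L.obj Z ≅ K.X (n + 1)) (hg : L.map g ≫ eZ.hom = eY.hom ≫ K.d n (n + 1)) :
    ∃ (X : A) (f : X ⟶ Y) (eX : L.obj X ≅ K.X m), f ≫ g = 0 ∧ L.map f ≫ eY.hom = eX.hom ≫ K.d m n := by
  haveI := Localization.essSurj L P.isoModSerre
  subst hmn
  obtain ⟨φ, hφ⟩ := Localization.exists_leftFraction L P.isoModSerre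
    ((L.objObjPreimageIso (K.X m)).hom ≫ K.d m (m + 1) ≫ eY.inv)
  obtain ⟨ψ, hψ⟩ := φ.exists_rightFraction
  let e₁ : L.obj ψ.X' ≅ K.X m := Localization.isoOfHom L _ ψ.s ψ.hs ≪≫ L.objObjPreimageIso _
  have h₁ : L.map ψ.f ≫ eY.hom = e₁.hom ≫ K.d m (m + 1) := by
    haveI := Localization.inverts L P.isoModSerre _ φ.hs
    have h2 : L.map ψ.f = L.map ψ.s ≫ φ.map L (Localization.inverts _ _) := by
      rw [← cancel_mono (L.map φ.s), Category.assoc, φ.map_comp_map_s, ← L.map_comp, ← L.map_comp, hψ]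
    rw [h2, ← hφ]; simp [e₁]
  have h0 : L.map (ψ.f ≫ g) = 0 := by
    rw [← cancel_mono eZ.hom, L.map_comp, Category.assoc, hg, ← Category.assoc, h₁, Category.assoc, K.d_comp_d,
      comp_zero, zero_comp]
  obtain ⟨X, s, hs, hz⟩ := (exists_isoModSerre_comp_eq_zero_iff P (ψ.f ≫ g)).2
    ((SerreClassLocalization.map_eq_zero_iff L P _).1 h0)
  refine ⟨X, s ≫ ψ.f, Localization.isoOfHom L _ s hs ≪≫ e₁, by rw [Category.assoc, hz], ?_⟩
  rw [L.map_comp, Category.assoc, h₁]
  simp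

include P in
theorem exists_complex_lift (K : CochainComplex Q ℤ) :
    ∃ (M : CochainComplex A ℤ), Nonempty ((L.mapHomologicalComplex (ComplexShape.up ℤ)).obj M ≅ K) := by
  obtain ⟨base⟩ := exists_edge (L := L) P K (Int.negSucc 0)
  choose Z g eZ hz hg using fun (n : ℤ) (E : Edge L K n) => exists_next P K n E.f E.eX E.eY E.comm
  choose W h eW hw hh using fun (m n : ℤ) (hmn : m + 1 = n) (E : Edge L K n) =>
    exists_prev P K m n hmn E.f E.eX E.eY E.comm
  let nx : ∀ n, Edge L K n → Edge L K (n + 1) := fun n E => ⟨E.Y, Z n E, g n E, E.eY, eZ n E, hg n E⟩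
  let pv : ∀ k : ℕ, Edge L K (Int.negSucc k) → Edge L K (Int.negSucc (k + 1)) := fun k E =>
    ⟨W (Int.negSucc (k + 1)) (Int.negSucc k) rfl E, E.X, h (Int.negSucc (k + 1)) (Int.negSucc k) rfl E,
      eW (Int.negSucc (k + 1)) (Int.negSucc k) rfl E, E.eX, hh (Int.negSucc (k + 1)) (Int.negSucc k) rfl E⟩
  let up : ∀ k : ℕ, Edge L K (Int.ofNat k) := fun k =>
    Nat.rec (motive := fun k => Edge L K (Int.ofNat k)) (nx (Int.negSucc 0) base) (fun k E => nx (Int.ofNat k) E) k
  let down : ∀ k : ℕ, Edge L K (Int.negSucc k) := fun k =>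
    Nat.rec (motive := fun k => Edge L K (Int.negSucc k)) base (fun k E => pv k E) k
  let X : ℤ → A := fun n =>
    match n with
    | .ofNat k => (up k).X
    | .negSucc k => (down k).X
  let d : ∀ n : ℤ, X n ⟶ X (n + 1) := fun n =>
    match n with
    | .ofNat k => (up k).f
    | .negSucc 0 => base.f
    | .negSucc (k + 1) => (down (k + 1)).f
  have sq : ∀ n, d n ≫ d (n + 1) = 0 := fun n =>
    match n with
    | .ofNat k => hz _ (up k)
    | .negSucc 0 => hz _ base
    | .negSucc 1 => hw (Int.negSucc 1) (Int.negSucc 0) rfl base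
    | .negSucc (k + 2) => hw (Int.negSucc (k + 2)) (Int.negSucc (k + 1)) rfl (down (k + 1))
  let e : ∀ n, L.obj (X n) ≅ K.X n := fun n =>
    match n with
    | .ofNat k => (up k).eX
    | .negSucc k => (down k).eX
  have he : ∀ n, L.map (d n) ≫ (e (n + 1)).hom = (e n).hom ≫ K.d n (n + 1) := fun n =>
    match n with
    | .ofNat k => (up k).comm
    | .negSucc 0 => base.comm
    | .negSucc (k + 1) => (down (k + 1)).comm
  refine ⟨CochainComplex.of X d sq, ⟨HomologicalComplex.Hom.isoOfComponents e fun i j hij => ?_⟩⟩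
  obtain rfl : i + 1 = j := hij
  change (e i).hom ≫ K.d i (i + 1) = L.map (CochainComplex.of.d X d i (i + 1)) ≫ (e (i + 1)).hom
  rw [CochainComplex.of_d]
  exact (he i).symm

end Groth.Agent.SerreLift8
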